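import Cfsg.Agent.EqLemmas

/-!
The Glauberman-Solomon subgroup `Cfsg.dStar`.

* `class_two_of_normalize`: two abelian subgroups normalising each other generate a group of class ≤ 2.
* `commute_family`: members of `Cfsg.dStarFamily` commute (p-groups).
* `dStar_mem`, `dStar_normal`, `center_mem`, `dStar_le_of_maximal`.
-/

set_option autoImplicit false

namespace Cfsg.Agent.DStar

open scoped commutatorElement

variable {S : Type*} [Group S]

theorem le_centralizer_self_iff (A : Subgroup S) : IsMulCommutative A ↔ A ≤ Subgroup.centralizer (A : Set S) := by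
  constructor
  · intro h a ha b hb
    exact congrArg Subtype.val (mul_comm' (⟨b, hb⟩ : A) ⟨a, ha⟩)
  · intro h
    exact ⟨⟨fun a b => Subtype.ext (h b.2 a a.2)⟩⟩

/-- Two abelian subgroups normalising each other generate a group of class at most two. -/
theorem class_two_of_normalize {B C : Subgroup S} (hB : B ≤ Subgroup.centralizer (B : Set S))
    (hC : C ≤ Subgroup.centralizer (C : Set S)) (hBC : B ≤ Subgroup.normalizer (C : Set S))
    (hCB : C ≤ Subgroup.normalizer (B : Set S)) {H : Subgroup S} (hH : H ≤ B ⊔ C) :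
    ⁅⁅H, H⁆, H⁆ = ⊥ := by
  set D := B ⊓ C with hD
  have hDc : D ≤ Subgroup.centralizer ((B ⊔ C : Subgroup S) : Set S) := by
    rw [Subgroup.le_centralizer_iff]
    exact sup_le (hB.trans (Subgroup.centralizer_le (SetLike.coe_subset_coe.mpr inf_le_left)))
      (hC.trans (Subgroup.centralizer_le (SetLike.coe_subset_coe.mpr inf_le_right)))
  have h1 : ⁅B ⊔ C, B ⊔ C⁆ ≤ D := by
    let T : Subgroup S := B ⊔ C
    haveI hN : (D.subgroupOf T).Normal := by
      constructor
      intro n hn g
      have h : (g : S) * (n : S) = (n : S) * (g : S) := hDc hn g g.2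
      show (g : S) * (n : S) * (g : S)⁻¹ ∈ D
      rw [h, mul_assoc, mul_inv_cancel, mul_one]
      exact hn
    let π := QuotientGroup.mk' (D.subgroupOf T)
    have hBT : B ≤ T := le_sup_left
    have hCT : C ≤ T := le_sup_right
    have hgen : B.subgroupOf T ⊔ C.subgroupOf T = ⊤ := by
      rw [← Subgroup.subgroupOf_sup hBT hCT, Subgroup.subgroupOf_self]
    let Bq := (B.subgroupOf T).map π
    let Cq := (C.subgroupOf T).map π
    have hBq : Bq ≤ Subgroup.centralizer (Bq : Set (↥T ⧸ D.subgroupOf T)) := by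
      rintro _ ⟨b, hb, rfl⟩ _ ⟨b', hb', rfl⟩
      rw [← map_mul, ← map_mul]
      exact congrArg π (Subtype.ext (hB hb b' hb'))
    have hCq : Cq ≤ Subgroup.centralizer (Cq : Set (↥T ⧸ D.subgroupOf T)) := by
      rintro _ ⟨b, hb, rfl⟩ _ ⟨b', hb', rfl⟩
      rw [← map_mul, ← map_mul]
      exact congrArg π (Subtype.ext (hC hb b' hb'))
    have hBCq : Cq ≤ Subgroup.centralizer (Bq : Set (↥T ⧸ D.subgroupOf T)) := by
      rintro _ ⟨c, hc, rfl⟩ _ ⟨b, hb, rfl⟩
      rw [← map_mul, ← map_mul]
      apply (QuotientGroup.eq).mpr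
      show ((b * c)⁻¹ * (c * b) : ↥T).1 ∈ D
      constructor
      · have e : ((b * c)⁻¹ * (c * b) : ↥T).1 = ((c : S)⁻¹ * ((b : S)⁻¹) * c) * b := by
          simp only [Subgroup.coe_mul, Subgroup.coe_inv]; group
        rw [e]
        exact B.mul_mem ((Subgroup.mem_normalizer_iff''.mp (hCB hc) _).mp (B.inv_mem hb)) hb
      · have e : ((b * c)⁻¹ * (c * b) : ↥T).1 = (c : S)⁻¹ * ((b : S)⁻¹ * c * b) := by
          simp only [Subgroup.coe_mul, Subgroup.coe_inv]; group
        rw [e]
        exact C.mul_mem (C.inv_mem hc) ((Subgroup.mem_normalizer_iff''.mp (hBC hb) _).mp hc)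
    have hall : ∀ u v : ↥T, π u * π v = π v * π u := by
      intro u v
      have hu : π u ∈ Bq ⊔ Cq := by
        rw [← Subgroup.map_sup, hgen]; exact Subgroup.mem_map_of_mem _ (Subgroup.mem_top u)
      have hv : π v ∈ Bq ⊔ Cq := by
        rw [← Subgroup.map_sup, hgen]; exact Subgroup.mem_map_of_mem _ (Subgroup.mem_top v)
      have hab : Bq ⊔ Cq ≤ Subgroup.centralizer ((Bq ⊔ Cq : Subgroup _) : Set (↥T ⧸ D.subgroupOf T)) := by
        have key : Bq ⊔ Cq ≤ Subgroup.centralizer (Bq : Set (↥T ⧸ D.subgroupOf T)) ⊓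
            Subgroup.centralizer (Cq : Set (↥T ⧸ D.subgroupOf T)) :=
          sup_le (le_inf hBq (Subgroup.le_centralizer_iff.mp hBCq)) (le_inf hBCq hCq)
        refine key.trans ?_
        rw [Subgroup.le_centralizer_iff]
        exact sup_le (Subgroup.le_centralizer_iff.mp inf_le_left) (Subgroup.le_centralizer_iff.mp inf_le_right)
      exact hab hv _ hu
    rw [Subgroup.commutator_le]
    intro x hx y hy
    have h2 : π ⁅(⟨x, hx⟩ : ↥T), ⟨y, hy⟩⁆ = 1 := by
      rw [map_commutatorElement, commutatorElement_eq_one_iff_mul_comm]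
      exact hall _ _
    exact (QuotientGroup.eq_one_iff (⁅(⟨x, hx⟩ : ↥T), (⟨y, hy⟩ : ↥T)⁆)).mp h2
  rw [Subgroup.commutator_eq_bot_iff_le_centralizer]
  exact ((Subgroup.commutator_mono hH hH).trans (h1.trans hDc)).trans
    (Subgroup.centralizer_le (SetLike.coe_subset_coe.mpr hH))

theorem family_commute_of_normalize {A B C : Subgroup S} (hA : A ∈ Cfsg.dStarFamily S) (hAB : A ≤ B)
    (hB : B ≤ Subgroup.centralizer (B : Set S))
    (hC : C ≤ Subgroup.centralizer (C : Set S)) (hBC : B ≤ Subgroup.normalizer (C : Set S))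
    (hCB : C ≤ Subgroup.normalizer (B : Set S)) : C ≤ Subgroup.centralizer (A : Set S) := by
  intro x hx a ha
  exact hA.2 x (class_two_of_normalize hB hC hBC hCB
    (sup_le (hAB.trans le_sup_left) ((Subgroup.zpowers_le.mpr hx).trans le_sup_right))) a ha

theorem map_mem_family {T : Type*} [Group T] (e : S ≃* T) {A : Subgroup S} (hA : A ∈ Cfsg.dStarFamily S) :
    A.map e.toMonoidHom ∈ Cfsg.dStarFamily T := by
  refine ⟨(le_centralizer_self_iff _).mpr ?_, ?_⟩
  · rintro _ ⟨a, ha, rfl⟩ _ ⟨b, hb, rfl⟩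
    rw [← map_mul, ← map_mul]
    exact congrArg _ ((le_centralizer_self_iff A).mp hA.1 ha b hb)
  · intro y hy
    obtain ⟨x, rfl⟩ := e.surjective y
    have hz : Subgroup.zpowers (e x) = (Subgroup.zpowers x).map e.toMonoidHom := (MonoidHom.map_zpowers e.toMonoidHom x).symm
    rw [hz, ← Subgroup.map_sup, ← Subgroup.map_commutator, ← Subgroup.map_commutator,
      Subgroup.map_eq_bot_iff_of_injective _ e.injective] at hy
    rintro _ ⟨a, ha, rfl⟩
    show e a * e x = e x * e a
    rw [← map_mul, ← map_mul, hA.2 x hy a ha]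

section Finite

variable [Finite S] {p : ℕ} [Fact p.Prime]

theorem commute_conj (hS : IsPGroup p S) (M : Subgroup S) :
    ∀ A ∈ Cfsg.dStarFamily S, A ≤ M → ∀ g ∈ M,
      A.map (MulAut.conj g).toMonoidHom ≤ Subgroup.centralizer (A : Set S) := by
  induction hn : Nat.card M using Nat.strong_induction_on generalizing M with
  | _ n ih =>
    intro A hA hAM g hg
    rcases hAM.eq_or_lt with rfl | hlt
    · refine le_trans ?_ ((le_centralizer_self_iff A).mp hA.1)
      rintro _ ⟨a, ha, rfl⟩
      exact A.mul_mem (A.mul_mem hg ha) (A.inv_mem hg)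
    -- a maximal subgroup of `M` above `A`
    haveI := (hS.to_subgroup M).isNilpotent
    obtain ⟨K', hK', hmax⟩ : ∃ K' : Subgroup ↥M, IsCoatom K' ∧ A.subgroupOf M ≤ K' := by
      rcases IsCoatomic.eq_top_or_exists_le_coatom (A.subgroupOf M) with h | h
      · exact absurd (Subgroup.subgroupOf_eq_top.mp h) (not_le_of_gt hlt)
      · exact h
    have hK'n : K'.Normal := Subgroup.NormalizerCondition.normal_of_coatom K'
      Group.normalizerCondition_of_isNilpotent hK'
    set K := K'.map M.subtype with hK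
    have hKM : K < M := by
      refine lt_of_le_of_ne (Subgroup.map_subtype_le K') fun h => hK'.1 ?_
      apply Subgroup.map_injective M.subtype_injective
      rw [← hK, h, ← MonoidHom.range_eq_map, Subgroup.range_subtype]
    have hAK : A ≤ K := by
      intro a ha
      exact ⟨⟨a, hAM ha⟩, hmax ha, rfl⟩
    have hconjK : ∀ m ∈ M, ∀ k ∈ K, m * k * m⁻¹ ∈ K := by
      rintro m hm _ ⟨k, hk, rfl⟩
      exact ⟨⟨m, hm⟩ * k * ⟨m, hm⟩⁻¹, hK'n.conj_mem k hk _, rfl⟩
    have hcard : Nat.card K < n := by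
      rw [← hn]
      by_contra h
      exact hKM.ne (Subgroup.eq_of_le_of_card_ge hKM.le (not_lt.mp h))
    -- the closure of a member under `K` is abelian
    have hcl : ∀ B ∈ Cfsg.dStarFamily S, B ≤ K →
        ∃ B' : Subgroup S, B ≤ B' ∧ B' ≤ K ∧ B' ≤ Subgroup.centralizer (B' : Set S) ∧
          K ≤ Subgroup.normalizer (B' : Set S) := by
      intro B hB hBK
      refine ⟨⨆ k : ↥K, B.map (MulAut.conj (k : S)).toMonoidHom, ?_, ?_, ?_, ?_⟩
      · refine le_iSup_of_le (1 : ↥K) ?_
        intro b hb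
        exact ⟨b, hb, by simp⟩
      · refine iSup_le fun k => ?_
        rintro _ ⟨b, hb, rfl⟩
        exact K.mul_mem (K.mul_mem k.2 (hBK hb)) (K.inv_mem k.2)
      · refine iSup_le fun k => Subgroup.le_centralizer_iff.mp (iSup_le fun l => ?_)
        have hkK : B.map (MulAut.conj (k : S)).toMonoidHom ≤ K := by
          rintro _ ⟨b, hb, rfl⟩
          exact K.mul_mem (K.mul_mem k.2 (hBK hb)) (K.inv_mem k.2)
        have h := ih _ hcard K rfl _ (map_mem_family (MulAut.conj (k : S)) hB) hkK ((l : S) * (k : S)⁻¹)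
          (K.mul_mem l.2 (K.inv_mem k.2))
        refine le_trans ?_ h
        rw [Subgroup.map_map]
        rintro _ ⟨b, hb, rfl⟩
        exact ⟨b, hb, by simp [mul_assoc]⟩
      · intro x hx
        apply Subgroup.mem_normalizer_fintype
        intro y hy
        have h : (MulAut.conj x).toMonoidHom y ∈
            (⨆ k : ↥K, B.map (MulAut.conj (k : S)).toMonoidHom).map (MulAut.conj x).toMonoidHom :=
          Subgroup.mem_map_of_mem _ hy
        rw [Subgroup.map_iSup] at h
        refine SetLike.le_def.mp (iSup_le fun k => ?_) h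
        refine le_iSup_of_le (⟨x, hx⟩ * k) ?_
        rintro _ ⟨_, ⟨b, hb, rfl⟩, rfl⟩
        exact ⟨b, hb, by simp [mul_assoc]⟩
    have hgA : A.map (MulAut.conj g).toMonoidHom ≤ K := by
      rintro _ ⟨a, ha, rfl⟩
      exact hconjK g hg a (hAK ha)
    obtain ⟨B, hAB, hBK, hBab, hBn⟩ := hcl A hA hAK
    obtain ⟨C, hAC, hCK, hCab, hCn⟩ := hcl _ (map_mem_family (MulAut.conj g) hA) hgA
    exact hAC.trans (family_commute_of_normalize hA hAB hBab hCab (hBK.trans hCn) (hCK.trans hBn))

theorem commute_family (hS : IsPGroup p S) {A B : Subgroup S} (hA : A ∈ Cfsg.dStarFamily S)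
    (hB : B ∈ Cfsg.dStarFamily S) : B ≤ Subgroup.centralizer (A : Set S) := by
  have hcl : ∀ D ∈ Cfsg.dStarFamily S, Subgroup.normalClosure (D : Set S) ≤
      Subgroup.centralizer ((Subgroup.normalClosure (D : Set S) : Subgroup S) : Set S) := by
    intro D hD
    rw [Subgroup.normalClosure, Subgroup.centralizer_closure, Subgroup.closure_le]
    intro x hx y hy
    obtain ⟨a, ha, hax⟩ := Group.mem_conjugatesOfSet_iff.mp hx
    obtain ⟨b, hb, hby⟩ := Group.mem_conjugatesOfSet_iff.mp hy
    obtain ⟨g, rfl⟩ := isConj_iff.mp hax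
    obtain ⟨k, rfl⟩ := isConj_iff.mp hby
    have hmem : MulAut.conj (k⁻¹ * g) a ∈ D.map (MulAut.conj (k⁻¹ * g)).toMonoidHom := Subgroup.mem_map_of_mem _ ha
    have h : Commute b (MulAut.conj (k⁻¹ * g) a) :=
      commute_conj hS ⊤ D hD le_top _ (Subgroup.mem_top _) hmem b hb
    have h2 := h.map (MulAut.conj k).toMonoidHom
    simp only [MulEquiv.coe_toMonoidHom, MulAut.conj_apply] at h2
    rw [show k * (k⁻¹ * g * a * (k⁻¹ * g)⁻¹) * k⁻¹ = g * a * g⁻¹ by group] at h2
    exact h2.eq
  haveI := Subgroup.normalClosure_normal (s := (A : Set S))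
  haveI := Subgroup.normalClosure_normal (s := (B : Set S))
  exact (Subgroup.le_normalClosure).trans
    (family_commute_of_normalize hA Subgroup.le_normalClosure (hcl A hA) (hcl B hB)
      Subgroup.le_normalizer_of_normal Subgroup.le_normalizer_of_normal)

theorem dStar_le_centralizer (hS : IsPGroup p S) :
    Cfsg.dStar S ≤ Subgroup.centralizer (Cfsg.dStar S : Set S) :=
  sSup_le fun _ hA => Subgroup.le_centralizer_iff.mp (sSup_le fun _ hB => commute_family hS hA hB)

theorem dStar_mem (hS : IsPGroup p S) : Cfsg.dStar S ∈ Cfsg.dStarFamily S := by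
  refine ⟨(le_centralizer_self_iff _).mpr (dStar_le_centralizer hS), ?_⟩
  intro x hx
  have h : Cfsg.dStar S ≤ Subgroup.centralizer ({x} : Set S) := sSup_le fun A hA a ha => by
    rw [Subgroup.mem_centralizer_singleton_iff]
    refine hA.2 x (le_bot_iff.mp (le_trans ?_ hx.le)) a ha
    have : A ⊔ Subgroup.zpowers x ≤ Cfsg.dStar S ⊔ Subgroup.zpowers x := sup_le_sup_right (le_sSup hA) _
    exact Subgroup.commutator_mono (Subgroup.commutator_mono this this) this
  exact fun a ha => Subgroup.mem_centralizer_singleton_iff.mp (h ha)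

end Finite

instance dStar_normal : (Cfsg.dStar S).Normal := by
  constructor
  intro n hn g
  have h : (MulAut.conj g).toMonoidHom n ∈ (Cfsg.dStar S).map (MulAut.conj g).toMonoidHom := Subgroup.mem_map_of_mem _ hn
  rw [Cfsg.dStar, sSup_eq_iSup, Subgroup.map_iSup] at h
  refine SetLike.le_def.mp (iSup_le fun A => ?_) h
  rw [Subgroup.map_iSup]
  exact iSup_le fun hA => le_sSup (map_mem_family (MulAut.conj g) hA)

theorem center_mem : Subgroup.center S ∈ Cfsg.dStarFamily S :=
  ⟨(le_centralizer_self_iff _).mpr fun a ha b _ => Subgroup.mem_center_iff.mp ha b,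
    fun x _ a ha => (Subgroup.mem_center_iff.mp ha x).symm⟩

theorem dStar_le_of_maximal [Finite S] {p : ℕ} [Fact p.Prime] (hS : IsPGroup p S) (A : Subgroup S) (hAn : A.Normal)
    (hA : IsMulCommutative A)
    (hmax : ∀ B : Subgroup S, B.Normal → IsMulCommutative B → A ≤ B → B = A) : Cfsg.dStar S ≤ A := by
  have hAc := (le_centralizer_self_iff A).mp hA
  have hD := dStar_mem hS
  have hAD : A ≤ Subgroup.centralizer (Cfsg.dStar S : Set S) :=
    family_commute_of_normalize hD le_rfl (dStar_le_centralizer hS) hAc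
      Subgroup.le_normalizer_of_normal Subgroup.le_normalizer_of_normal
  have hab : IsMulCommutative ↥(A ⊔ Cfsg.dStar S) := by
    rw [le_centralizer_self_iff]
    have key : A ⊔ Cfsg.dStar S ≤ Subgroup.centralizer (A : Set S) ⊓ Subgroup.centralizer (Cfsg.dStar S : Set S) :=
      sup_le (le_inf hAc hAD) (le_inf (Subgroup.le_centralizer_iff.mp hAD) (dStar_le_centralizer hS))
    refine key.trans ?_
    rw [Subgroup.le_centralizer_iff]
    exact sup_le (Subgroup.le_centralizer_iff.mp inf_le_left) (Subgroup.le_centralizer_iff.mp inf_le_right)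
  exact le_sup_right.trans (hmax _ inferInstance hab le_sup_left).le

end Cfsg.Agent.DStar
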